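import Cfsg.Agent.H23.D4Spec.Gens

/-!
# Linear algebra of semisimple isometries respecting the triality product
-/

set_option autoImplicit false
set_option maxRecDepth 100000

namespace Cfsg.Agent.H23.D4Spec

open Cfsg.Lie Cfsg.Agent.H88.AltD4Twist Module Polynomial
open scoped Matrix MatrixGroups

variable {K : Type*} [Field K]

/-- Fixed space. -/
noncomputable def W (M : M8 K) : Submodule K (Fin 8 → K) := LinearMap.ker (Matrix.toLin' (M - 1))

/-- Moved space. -/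
noncomputable def R (M : M8 K) : Submodule K (Fin 8 → K) := LinearMap.range (Matrix.toLin' (M - 1))

theorem mem_W {M : M8 K} {x : Fin 8 → K} : x ∈ W M ↔ M *ᵥ x = x := by
  rw [W, LinearMap.mem_ker, Matrix.toLin'_apply, Matrix.sub_mulVec, Matrix.one_mulVec, sub_eq_zero]

theorem mem_R {M : M8 K} {x : Fin 8 → K} : x ∈ R M ↔ ∃ y, M *ᵥ y - y = x := by
  simp [R, LinearMap.mem_range, Matrix.sub_mulVec]

theorem sub_one_mulVec (M : M8 K) (x : Fin 8 → K) : (M - 1) *ᵥ x = M *ᵥ x - x := by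
  rw [Matrix.sub_mulVec, Matrix.one_mulVec]

theorem finrank_W_add_R (M : M8 K) : finrank K (W M) + finrank K (R M) = 8 := by
  rw [W, R, add_comm, LinearMap.finrank_range_add_finrank_ker]
  simp

theorem W_le_W_pow (M : M8 K) (j : ℕ) : W M ≤ W (M ^ j) := fun x hx => by
  rw [mem_W] at hx ⊢
  induction j with
  | zero => simp
  | succ j ih => rw [pow_succ, ← Matrix.mulVec_mulVec, hx, ih]

theorem W_top_iff {M : M8 K} : W M = ⊤ ↔ M = 1 := by
  rw [W, LinearMap.ker_eq_top, LinearEquiv.map_eq_zero_iff, sub_eq_zero]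

theorem R_bot_iff {M : M8 K} : R M = ⊥ ↔ M = 1 := by
  rw [R, LinearMap.range_eq_bot, LinearEquiv.map_eq_zero_iff, sub_eq_zero]

theorem W_comm {A B : M8 K} (h : Commute A B) {x : Fin 8 → K} (hx : x ∈ W B) : A *ᵥ x ∈ W B := by
  rw [mem_W] at hx ⊢
  rw [Matrix.mulVec_mulVec, ← h.eq, ← Matrix.mulVec_mulVec, hx]

theorem R_comm {A B : M8 K} (h : Commute A B) {x : Fin 8 → K} (hx : x ∈ R B) : A *ᵥ x ∈ R B := by
  obtain ⟨y, rfl⟩ := mem_R.1 hx
  exact mem_R.2 ⟨A *ᵥ y, by rw [Matrix.mulVec_sub, Matrix.mulVec_mulVec, Matrix.mulVec_mulVec, h.eq]⟩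

theorem nil_bound {A : M8 K} {X : Submodule K (Fin 8 → K)} (hX : ∀ x ∈ X, A *ᵥ x ∈ X) {n : ℕ}
    (hn : ∀ x ∈ X, (A ^ n) *ᵥ x = 0) {j : ℕ} (hj : finrank K X ≤ j) : ∀ x ∈ X, (A ^ j) *ᵥ x = 0 := by
  intro x hx
  set f : Module.End K X := (Matrix.toLin' A).restrict (fun y hy => by simpa using hX y hy)
  have hf : ∀ i : ℕ, ∀ y : X, ((f ^ i) y : Fin 8 → K) = (A ^ i) *ᵥ (y : Fin 8 → K) := fun i => by
    induction i with
    | zero => simp
    | succ i ih =>
      intro y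
      rw [pow_succ, pow_succ, Module.End.mul_apply, ih, ← Matrix.mulVec_mulVec]
      simp [f, LinearMap.restrict_apply]
  have h1 : LinearMap.ker (f ^ n) = ⊤ := LinearMap.ker_eq_top.2 <| LinearMap.ext fun y => Subtype.ext <| by
    rw [hf]; simpa using hn y y.2
  have h2 : LinearMap.ker (f ^ finrank K X) = ⊤ := eq_top_iff.2 (h1 ▸ Module.End.ker_pow_le_ker_pow_finrank f n)
  obtain ⟨i, rfl⟩ := Nat.exists_eq_add_of_le hj
  have h3 := hf (finrank K X) ⟨x, hx⟩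
  rw [LinearMap.ker_eq_top.1 h2] at h3
  rw [add_comm, pow_add, ← Matrix.mulVec_mulVec, ← h3]
  simp

theorem exists_fixed {A : M8 K} {X : Submodule K (Fin 8 → K)} (hX : ∀ x ∈ X, A *ᵥ x ∈ X) (h0 : X ≠ ⊥) {n : ℕ}
    (hn : ∀ x ∈ X, (A ^ n) *ᵥ x = 0) : ∃ x ∈ X, x ≠ 0 ∧ A *ᵥ x = 0 := by
  induction n generalizing A with
  | zero =>
    obtain ⟨x, hx, hx0⟩ := Submodule.exists_mem_ne_zero_of_ne_bot h0
    exact absurd (by simpa using hn x hx) hx0
  | succ n ih =>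
    by_cases h : ∀ x ∈ X, (A ^ n) *ᵥ x = 0
    · exact ih hX h
    · push Not at h
      obtain ⟨x, hx, hx0⟩ := h
      refine ⟨(A ^ n) *ᵥ x, ?_, hx0, by rw [Matrix.mulVec_mulVec, ← pow_succ']; exact hn x hx⟩
      clear hx0 hn ih
      induction n with
      | zero => simpa using hx
      | succ n ih => rw [pow_succ', ← Matrix.mulVec_mulVec]; exact hX _ ih

theorem nil_of_image {A : M8 K} {X : Submodule K (Fin 8 → K)} (hX : ∀ x ∈ X, A *ᵥ x ∈ X) {n : ℕ}
    (hn : ∀ x ∈ X, (A ^ n) *ᵥ x = 0) {r : ℕ} (hr : finrank K (X.map (Matrix.toLin' A)) ≤ r) :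
    ∀ x ∈ X, (A ^ (r + 1)) *ᵥ x = 0 := by
  intro x hx
  have hY : ∀ y ∈ X.map (Matrix.toLin' A), y ∈ X := by
    rintro _ ⟨z, hz, rfl⟩; simpa using hX z hz
  have h := nil_bound (A := A) (X := X.map (Matrix.toLin' A))
    (fun y hy => ⟨y, hY y hy, by simp⟩) (n := n) (fun y hy => hn y (hY y hy)) hr _ ⟨x, hx, rfl⟩
  rw [pow_succ, ← Matrix.mulVec_mulVec]
  simpa using h

variable [CharP K 2]

theorem disjoint_W_R {M : M8 K} {m : ℕ} (hm : Odd m) (hM : M ^ m = 1) : Disjoint (W M) (R M) := by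
  rw [Submodule.disjoint_def]
  intro x hx hx'
  obtain ⟨y, rfl⟩ := mem_R.1 hx'
  rw [mem_W] at hx
  set z := M *ᵥ y - y
  have h : ∀ i : ℕ, (M ^ i) *ᵥ y = y + i • z := by
    intro i
    induction i with
    | zero => simp
    | succ i ih =>
      rw [pow_succ', ← Matrix.mulVec_mulVec, ih, Matrix.mulVec_add, Matrix.mulVec_smul, hx, succ_nsmul]
      simp only [z]
      abel
  have h1 := h m
  rw [hM, Matrix.one_mulVec, ← Nat.cast_smul_eq_nsmul K, left_eq_add] at h1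
  obtain ⟨c, rfl⟩ := hm
  simpa [CharTwo.two_eq_zero] using h1

theorem isCompl_W_R {M : M8 K} {m : ℕ} (hm : Odd m) (hM : M ^ m = 1) : IsCompl (W M) (R M) := by
  refine ⟨disjoint_W_R hm hM, codisjoint_iff.2 ?_⟩
  refine Submodule.eq_top_of_finrank_eq ?_
  have h := Submodule.finrank_sup_add_finrank_inf_eq (W M) (R M)
  rw [(disjoint_W_R hm hM).eq_bot, finrank_bot, finrank_W_add_R] at h
  simpa using h

/-- The polar form. -/
def bil (x y : Fin 8 → K) : K := x ⬝ᵥ J K *ᵥ y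

theorem bil_isom {M : M8 K} (hJ : Mᵀ * J K * M = J K) (x y : Fin 8 → K) : bil (M *ᵥ x) (M *ᵥ y) = bil x y := by
  rw [bil, bil, ← Matrix.vecMul_transpose, ← Matrix.dotProduct_mulVec, Matrix.mulVec_mulVec, Matrix.mulVec_mulVec,
    hJ]

theorem bil_eq (x y : Fin 8 → K) : bil x y =
    x 0 * y 4 + x 4 * y 0 + x 1 * y 5 + x 5 * y 1 + x 2 * y 6 + x 6 * y 2 + x 3 * y 7 + x 7 * y 3 := by
  simp [bil, J, op8, dotProduct, Matrix.mulVec, Fin.sum_univ_eight]
  ring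

theorem q8_add (x y : Fin 8 → K) : q8 (x + y) = q8 x + q8 y + bil x y := by
  simp [q8, bil_eq]
  ring

theorem bil_nondeg {x : Fin 8 → K} (h : ∀ y, bil x y = 0) : x = 0 := by
  funext i
  have := h (Pi.single (i + 4) 1)
  fin_cases i <;> simpa [bil_eq] using this

theorem bil_perp {M : M8 K} (hJ : Mᵀ * J K * M = J K) {x y : Fin 8 → K} (hx : x ∈ W M) (hy : y ∈ R M) :
    bil x y = 0 ∧ bil y x = 0 := by
  obtain ⟨z, rfl⟩ := mem_R.1 hy
  rw [mem_W] at hx
  have h1 := bil_isom hJ x z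
  have h2 := bil_isom hJ z x
  rw [hx] at h1 h2
  constructor
  · rw [bil, Matrix.mulVec_sub, dotProduct_sub]
    exact sub_eq_zero.2 h1
  · rw [bil, sub_dotProduct]
    exact sub_eq_zero.2 h2

theorem exists_q8 {X Y : Submodule K (Fin 8 → K)} (hX : X ≠ ⊥) (hsup : X ⊔ Y = ⊤)
    (hperp : ∀ x ∈ X, ∀ y ∈ Y, bil x y = 0) : ∃ c ∈ X, q8 c ≠ 0 := by
  by_contra h
  push Not at h
  obtain ⟨x, hx, hx0⟩ := Submodule.exists_mem_ne_zero_of_ne_bot hX
  refine hx0 (bil_nondeg fun z => ?_)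
  obtain ⟨a, ha, b, hb, rfl⟩ := Submodule.mem_sup.1 (show z ∈ X ⊔ Y from hsup ▸ Submodule.mem_top)
  have h1 := q8_add x a
  rw [h x hx, h a ha, h _ (add_mem hx ha)] at h1
  rw [bil, Matrix.mulVec_add, dotProduct_add]
  simpa [bil] using (show bil x a + bil x b = 0 by rw [hperp x hx b hb, add_zero]; simpa using h1.symm)

/-- Squaring of entries. -/
def sq (x : Fin 8 → K) : Fin 8 → K := fun i => x i ^ 2

theorem q8_sq (x : Fin 8 → K) : q8 (sq x) = q8 x ^ 2 := by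
  simp only [q8, sq, CharTwo.add_sq, mul_pow]

theorem frob_mulVec (M : M8 K) (x : Fin 8 → K) : frob M *ᵥ sq x = sq (M *ᵥ x) := by
  funext i
  exact (RingHom.map_mulVec (frobenius K 2) M x i).symm

theorem sq_sub (x y : Fin 8 → K) : sq (x - y) = sq x - sq y := by
  funext i
  exact map_sub (frobenius K 2) (x i) (y i)

variable [Fintype K]

theorem sq_surjective : Function.Surjective (sq (K := K)) :=
  Finite.injective_iff_surjective.1 fun _ _ h => funext fun i => frobenius_inj K 2 (congrFun h i)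

theorem sq_injective : Function.Injective (sq (K := K)) :=
  fun _ _ h => funext fun i => frobenius_inj K 2 (congrFun h i)

theorem W_frob (M : M8 K) : (W (frob M) : Set (Fin 8 → K)) = sq '' (W M : Set _) := by
  ext x
  obtain ⟨y, rfl⟩ := sq_surjective x
  simp only [SetLike.mem_coe, mem_W, sq_injective.mem_set_image, frob_mulVec, sq_injective.eq_iff]

theorem R_frob (M : M8 K) : (R (frob M) : Set (Fin 8 → K)) = sq '' (R M : Set _) := by
  ext x
  simp only [SetLike.mem_coe, mem_R, Set.mem_image]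
  constructor
  · rintro ⟨y, rfl⟩
    obtain ⟨y, rfl⟩ := sq_surjective y
    exact ⟨_, ⟨y, rfl⟩, by rw [sq_sub, frob_mulVec]⟩
  · rintro ⟨_, ⟨y, rfl⟩, rfl⟩
    exact ⟨sq y, by rw [sq_sub, frob_mulVec]⟩

theorem exists_q8_R {M : M8 K} (hJ : Mᵀ * J K * M = J K) {m : ℕ} (hm : Odd m) (hM : M ^ m = 1) (hne : M ≠ 1) :
    ∃ c ∈ R (frob M), q8 c ≠ 0 := by
  obtain ⟨c, hc, hq⟩ := exists_q8 (X := R M) (Y := W M) (fun e => hne (R_bot_iff.1 e))
    (by rw [sup_comm]; exact (isCompl_W_R hm hM).sup_eq_top) fun x hx y hy => (bil_perp hJ hy hx).2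
  exact ⟨sq c, (Set.ext_iff.1 (R_frob M) _).2 ⟨c, hc, rfl⟩, by rw [q8_sq]; exact pow_ne_zero 2 hq⟩

theorem exists_q8_W {M : M8 K} (hJ : Mᵀ * J K * M = J K) {m : ℕ} (hm : Odd m) (hM : M ^ m = 1) (hW : W M ≠ ⊥) :
    ∃ c ∈ W (frob M), q8 c ≠ 0 := by
  obtain ⟨c, hc, hq⟩ := exists_q8 (X := W M) (Y := R M) hW (isCompl_W_R hm hM).sup_eq_top
    fun x hx y hy => (bil_perp hJ hx hy).1
  exact ⟨sq c, (Set.ext_iff.1 (W_frob M) _).2 ⟨c, hc, rfl⟩, by rw [q8_sq]; exact pow_ne_zero 2 hq⟩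

theorem four {M : M8 K} (hT : Tri M) (hJ : Mᵀ * J K * M = J K) {m : ℕ} (hm : Odd m) (hM : M ^ m = 1) (hne : M ≠ 1) :
    finrank K (W M) ≤ 4 := by
  obtain ⟨c, hc, hq⟩ := exists_q8_R hJ hm hM hne
  obtain ⟨y, rfl⟩ := mem_R.1 hc
  have hmem : ∀ w ∈ W M, tm w (frob M *ᵥ y - y) ∈ R (frob (frob M)) := fun w hw => by
    refine mem_R.2 ⟨tm w y, ?_⟩
    rw [← hT, mem_W.1 hw, ← tmL_apply, ← tmL_apply, ← tmL_apply, map_sub]
  have h1 : Nat.card (W M) ≤ Nat.card (R (frob (frob M))) :=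
    Nat.card_le_card_of_injective (fun w => ⟨_, hmem w w.2⟩) fun a b h => Subtype.ext <|
      tm_left_injective hq (congrArg Subtype.val h)
  have h2 : Nat.card (R (frob (frob M))) = Nat.card (R M) := by
    have e : ∀ N : M8 K, Nat.card (R (frob N)) = Nat.card (R N) := fun N => by
      rw [← SetLike.coe_sort_coe, R_frob]
      exact Nat.card_image_of_injective sq_injective _
    rw [e, e]
  rw [h2, Module.natCard_eq_pow_finrank (K := K) (V := W M), Module.natCard_eq_pow_finrank (K := K) (V := R M)] at h1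
  have h3 := (Nat.pow_le_pow_iff_right (Finite.one_lt_card (α := K))).1 h1
  have h4 := finrank_W_add_R M
  omega

end Cfsg.Agent.H23.D4Spec
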