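import Cfsg.Agent.H23.D4Spec.Lin

/-!
# Rationality of the minimal polynomial and its consequences
-/

set_option autoImplicit false
set_option maxRecDepth 100000

namespace Cfsg.Agent.H23.D4Spec

open Cfsg.Lie Cfsg.Agent.H88.AltD4Twist Module Polynomial
open scoped Matrix MatrixGroups

variable {K : Type*} [Field K] [CharP K 2]

theorem frob_apply (M : M8 K) (i j : Fin 8) : frob M i j = M i j ^ 2 := rfl

theorem frob_injective : Function.Injective (frob (K := K)) :=
  fun A B h => Matrix.ext fun i j => frobenius_inj K 2 (Matrix.ext_iff.2 h i j)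

theorem frob_algebraMap (a : K) : frob (algebraMap K (M8 K) a) = algebraMap K (M8 K) (a ^ 2) := by
  ext i j
  rw [frob_apply, Matrix.algebraMap_eq_diagonal, Matrix.algebraMap_eq_diagonal]
  by_cases h : i = j
  · subst h; simp
  · simp [h]

theorem frob2_aeval (M : M8 K) (q : K[X]) :
    frob (frob (aeval M q)) = aeval (frob (frob M)) (q.map ((frobenius K 2).comp (frobenius K 2))) := by
  induction q using Polynomial.induction_on' with
  | add p q hp hq => simp only [map_add, Polynomial.map_add, hp, hq]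
  | monomial n a =>
    simp only [Polynomial.map_monomial, aeval_monomial, map_mul, map_pow, frob_algebraMap, RingHom.comp_apply,
      frobenius_def]

theorem aeval_semiconj {A M F : M8 K} (h : SemiconjBy A M F) (q : K[X]) :
    SemiconjBy A (aeval M q) (aeval F q) := by
  induction q using Polynomial.induction_on' with
  | add p q hp hq => simpa only [map_add] using hp.add_right hq
  | monomial n a =>
    rw [aeval_monomial, aeval_monomial]
    exact SemiconjBy.mul_right (Algebra.commutes a A).symm (h.pow_right n)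

theorem aeval_mulVec {M : M8 K} {v : Fin 8 → K} {c : K} (h : M *ᵥ v = c • v) (q : K[X]) :
    aeval M q *ᵥ v = q.eval c • v := by
  induction q using Polynomial.induction_on' with
  | add p q hp hq => simp only [map_add, Matrix.add_mulVec, hp, hq, eval_add, add_smul]
  | monomial n a =>
    have hn : (M ^ n) *ᵥ v = c ^ n • v := by
      induction n with
      | zero => simp
      | succ n ih => rw [pow_succ', ← Matrix.mulVec_mulVec, ih, Matrix.mulVec_smul, h, smul_smul, pow_succ]
    rw [aeval_monomial, eval_monomial, ← Algebra.smul_def, Matrix.smul_mulVec, hn, smul_smul]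

variable [Fintype K] (hK : Fintype.card K = 8)

theorem semiconj_frob2 {M : M8 K} (hT : Tri M) (hJ : Mᵀ * J K * M = J K) {m : ℕ} (hm : Odd m) (hM : M ^ m = 1)
    (hW : W M ≠ ⊥) : ∃ A : M8 K, IsUnit A ∧ SemiconjBy A M (frob (frob M)) := by
  obtain ⟨c, hc, hq⟩ := exists_q8_W hJ hm hM hW
  refine ⟨LinearMap.toMatrix' (tmL.flip c), ?_, ?_⟩
  · rw [← Matrix.mulVec_injective_iff_isUnit]
    intro x y h
    simp only [LinearMap.toMatrix'_mulVec] at h
    exact tm_left_injective hq h
  · refine Matrix.toLin'.injective (LinearMap.ext fun x => ?_)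
    rw [Matrix.toLin'_apply, Matrix.toLin'_apply, ← Matrix.mulVec_mulVec, ← Matrix.mulVec_mulVec,
      LinearMap.toMatrix'_mulVec, LinearMap.toMatrix'_mulVec]
    show tm (M *ᵥ x) c = frob (frob M) *ᵥ tm x c
    rw [← hT, mem_W.1 hc]

include hK in
theorem rational {M : M8 K} (hT : Tri M) (hJ : Mᵀ * J K * M = J K) {m : ℕ} (hm : Odd m) (hM : M ^ m = 1)
    (hW : W M ≠ ⊥) : ∃ p : (ZMod 2)[X], p.Monic ∧ p.natDegree ≤ 8 ∧
      p.map (ZMod.castHom (dvd_refl 2) K) = minpoly K M := by
  obtain ⟨A, hA, hAM⟩ := semiconj_frob2 hT hJ hm hM hW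
  set φ := (frobenius K 2).comp (frobenius K 2)
  set μ := minpoly K M
  have hint : IsIntegral K M := Matrix.isIntegral M
  have h1 : aeval (frob (frob M)) μ = 0 := by
    have := (aeval_semiconj hAM μ).eq
    rw [minpoly.aeval, mul_zero] at this
    exact hA.mul_left_eq_zero.1 this.symm
  have h2 : aeval (frob (frob M)) (μ.map φ) = 0 := by rw [← frob2_aeval, minpoly.aeval, map_zero, map_zero]
  have hsur : Function.Surjective φ :=
    Finite.injective_iff_surjective.1 ((frobenius_inj K 2).comp (frobenius_inj K 2))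
  have h3 : μ.map φ = μ := by
    by_contra hne
    obtain ⟨d, hd⟩ := Polynomial.map_surjective φ hsur (μ.map φ - μ)
    have hd0 : d ≠ 0 := fun e => by rw [e, Polynomial.map_zero] at hd; exact hne (sub_eq_zero.1 hd.symm)
    have hdz : aeval M d = 0 := by
      apply frob_injective; apply frob_injective
      rw [frob2_aeval, hd, map_sub, h1, h2, sub_zero, map_zero, map_zero]
    have hdeg := minpoly.degree_le_of_ne_zero K M hd0 hdz
    have hlt : (μ.map φ - μ).degree < (μ.map φ).degree :=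
      degree_sub_lt (degree_map μ φ) (by simpa using minpoly.ne_zero hint)
        (by rw [((minpoly.monic hint).map φ).leadingCoeff, (minpoly.monic hint).leadingCoeff])
    rw [← hd, degree_map, degree_map] at hlt
    exact absurd hdeg (not_le.2 hlt)
  have hco : ∀ i, μ.coeff i ∈ Set.range (ZMod.castHom (dvd_refl 2) K) := fun i => by
    have e4 : (μ.coeff i) ^ 4 = μ.coeff i := by
      rw [show 4 = 2 * 2 from rfl, pow_mul]
      conv_rhs => rw [← h3, coeff_map]
      rfl
    have e8 : (μ.coeff i) ^ 8 = μ.coeff i := by rw [← hK, FiniteField.pow_card]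
    have e2 : μ.coeff i * (μ.coeff i - 1) = 0 := by
      linear_combination e8 - ((μ.coeff i) ^ 4 + μ.coeff i) * e4
    rcases mul_eq_zero.1 e2 with e | e
    · exact ⟨0, by rw [map_zero, e]⟩
    · exact ⟨1, by rw [map_one, sub_eq_zero.1 e]⟩
  obtain ⟨p, hp⟩ := (mem_lifts μ).1 ((lifts_iff_coeff_lifts μ).2 hco)
  refine ⟨p, ?_, ?_, hp⟩
  · rw [← monic_map_iff (f := ZMod.castHom (dvd_refl 2) K), hp]
    exact minpoly.monic hint
  · rw [← natDegree_map_eq_of_injective (RingHom.injective (ZMod.castHom (dvd_refl 2) K)) p, hp]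
    refine (natDegree_le_of_dvd (minpoly.dvd K M (Matrix.aeval_self_charpoly M)) M.charpoly_monic.ne_zero).trans ?_
    simp [Matrix.charpoly_natDegree_eq_dim]

/-- The odd part of the order of the group. -/
abbrev oddOrd : ℕ := 3 ^ 4 * 7 ^ 2 * 13

theorem gcd_check : ∀ j ≤ 8, 0 < j → Nat.gcd oddOrd (2 ^ j - 1) ∣ 63 ∧ (j ≠ 6 → Nat.gcd 9 (2 ^ j - 1) ∣ 3) := by decide

omit [Fintype K] in
theorem irreducible_dvd {m : ℕ} (hm : Odd m) {f : (ZMod 2)[X]} (hf : Irreducible f) (hfm : f ∣ X ^ m - 1) {i : ℕ}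
    (hi : Nat.gcd m (2 ^ f.natDegree - 1) ∣ i) : f ∣ X ^ i - 1 := by
  haveI := Fact.mk hf
  have hf0 := hf.ne_zero
  haveI : Module.Finite (ZMod 2) (AdjoinRoot f) := (AdjoinRoot.powerBasis hf0).finite
  haveI : Finite (AdjoinRoot f) := Module.finite_of_finite (ZMod 2)
  letI : Fintype (AdjoinRoot f) := Fintype.ofFinite _
  set α := AdjoinRoot.root f
  have key : ∀ k : ℕ, f ∣ X ^ k - 1 ↔ α ^ k = 1 := fun k => by
    rw [← AdjoinRoot.mk_eq_zero, map_sub, map_pow, map_one, AdjoinRoot.mk_X, sub_eq_zero]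
  have hcard : Fintype.card (AdjoinRoot f) = 2 ^ f.natDegree := by
    rw [← Nat.card_eq_fintype_card, Module.natCard_eq_pow_finrank (K := ZMod 2), Nat.card_zmod,
      (AdjoinRoot.powerBasis hf0).finrank, AdjoinRoot.powerBasis_dim]
  have h1 := (key m).1 hfm
  have hα : α ≠ 0 := fun e => by
    rw [e, zero_pow (by rintro rfl; simp at hm)] at h1
    exact zero_ne_one h1
  have h2 : α ^ (2 ^ f.natDegree - 1) = 1 := hcard ▸ FiniteField.pow_card_sub_one_eq_one α hα
  rw [key, ← orderOf_dvd_iff_pow_eq_one]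
  exact (Nat.dvd_gcd (orderOf_dvd_of_pow_eq_one h1) (orderOf_dvd_of_pow_eq_one h2)).trans hi

theorem squarefree_X_pow_sub_one {m : ℕ} (hm : Odd m) : Squarefree (X ^ m - 1 : (ZMod 2)[X]) := by
  rw [← map_one C]
  refine (separable_X_pow_sub_C 1 ?_ one_ne_zero).squarefree
  rw [Ne, ZMod.natCast_eq_zero_iff_even]
  simpa using hm

omit [Fintype K] in
theorem dvd_of_factors {p h : (ZMod 2)[X]} (hp : Squarefree p) (H : ∀ f, Irreducible f → f ∣ p → f ∣ h) : p ∣ h := by
  obtain ⟨r, hr⟩ := EuclideanDomain.gcd_dvd_left p h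
  rcases eq_or_ne p 0 with h0 | h0
  · exact absurd (h0 ▸ hp) not_squarefree_zero
  by_cases hu : IsUnit r
  · obtain ⟨u, rfl⟩ := hu
    rw [hr]
    exact Units.mul_right_dvd.2 (EuclideanDomain.gcd_dvd_right p h)
  · have hr0 : r ≠ 0 := fun e => h0 (by rw [hr, e, mul_zero])
    obtain ⟨f, hf, hfr⟩ := WfDvdMonoid.exists_irreducible_factor hu hr0
    have hfp : f ∣ p := hr ▸ dvd_mul_of_dvd_right hfr _
    refine absurd (hp f ?_) hf.not_isUnit
    rw [hr]
    exact mul_dvd_mul (EuclideanDomain.dvd_gcd hfp (H f hf hfp)) hfr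

include hK in
theorem poly_data {M : M8 K} (hT : Tri M) (hJ : Mᵀ * J K * M = J K) {m : ℕ} (hm : Odd m) (hM : M ^ m = 1)
    (hW : W M ≠ ⊥) : ∃ p : (ZMod 2)[X], p.natDegree ≤ 8 ∧ p ∣ X ^ m - 1 ∧ Squarefree p ∧
      p.map (ZMod.castHom (dvd_refl 2) K) = minpoly K M ∧ ∀ i, p ∣ X ^ i - 1 → M ^ i = 1 := by
  obtain ⟨p, -, hdeg, hp⟩ := rational hK hT hJ hm hM hW
  have hdvd : p ∣ X ^ m - 1 := by
    rw [← map_dvd_map' (ZMod.castHom (dvd_refl 2) K), hp]
    exact minpoly.dvd K M (by simp [hM])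
  refine ⟨p, hdeg, hdvd, (squarefree_X_pow_sub_one hm).squarefree_of_dvd hdvd, hp, fun i hi => ?_⟩
  have h : minpoly K M ∣ X ^ i - 1 := by
    have := Polynomial.map_dvd (ZMod.castHom (dvd_refl 2) K) hi
    simpa [hp] using this
  simpa [sub_eq_zero] using aeval_eq_zero_of_dvd_aeval_eq_zero h (minpoly.aeval K M)

include hK in
theorem sixty_three {M : M8 K} (hT : Tri M) (hJ : Mᵀ * J K * M = J K) {m : ℕ} (hm : Odd m) (hmo : m ∣ oddOrd)
    (hM : M ^ m = 1) (hW : W M ≠ ⊥) : M ^ 63 = 1 := by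
  obtain ⟨p, hdeg, hdvd, hsq, -, hpow⟩ := poly_data hK hT hJ hm hM hW
  refine hpow 63 (dvd_of_factors hsq fun f hf hfp => irreducible_dvd hm hf (hfp.trans hdvd) ?_)
  have hfd : f.natDegree ≤ 8 := (natDegree_le_of_dvd hfp hsq.ne_zero).trans hdeg
  exact (Nat.gcd_dvd_gcd_of_dvd_left _ hmo).trans (gcd_check _ hfd hf.natDegree_pos).1

include hK in
theorem nine {M : M8 K} (hT : Tri M) (hJ : Mᵀ * J K * M = J K) (hM : M ^ 9 = 1) (hM3 : M ^ 3 ≠ 1)
    (hW : W M ≠ ⊥) : finrank K (W (M ^ 3)) ≤ 2 := by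
  obtain ⟨p, hdeg, hdvd, hsq, hp, hpow⟩ := poly_data hK hT hJ (by decide) hM hW
  obtain ⟨f, hf, hfp, hf3⟩ : ∃ f, Irreducible f ∧ f ∣ p ∧ ¬ f ∣ X ^ 3 - 1 := by
    by_contra h
    push Not at h
    exact hM3 (hpow 3 (dvd_of_factors hsq fun f hf hfp => h f hf hfp))
  have hf6 : f.natDegree = 6 := by
    by_contra h6
    exact hf3 (irreducible_dvd (by decide) hf (hfp.trans hdvd)
      ((gcd_check _ ((natDegree_le_of_dvd hfp hsq.ne_zero).trans hdeg) hf.natDegree_pos).2 h6))
  set ι := ZMod.castHom (dvd_refl 2) K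
  set z : Module.End K (R (M ^ 3)) :=
    (Matrix.toLin' M).restrict (fun y hy => by simpa using R_comm (Commute.self_pow M 3) hy)
  have hz : ∀ q : K[X], ∀ y : R (M ^ 3), ((aeval z q) y : Fin 8 → K) = aeval M q *ᵥ (y : Fin 8 → K) := fun q => by
    induction q using Polynomial.induction_on' with
    | add p q hp hq => intro y; simp [hp, hq, Matrix.add_mulVec]
    | monomial n a =>
      intro y
      have hn : ((z ^ n) y : Fin 8 → K) = (M ^ n) *ᵥ (y : Fin 8 → K) := by
        induction n generalizing y with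
        | zero => simp
        | succ n ih =>
          rw [pow_succ z n, pow_succ M n, Module.End.mul_apply, ih, ← Matrix.mulVec_mulVec]
          simp [z, LinearMap.restrict_apply]
      simp [aeval_monomial, Matrix.smul_mulVec, ← Algebra.smul_def, hn]
  have hq : aeval M (z.charpoly * (X ^ 3 - 1)) = 0 := by
    refine Matrix.toLin'.injective (LinearMap.ext fun v => ?_)
    have h0 := hz z.charpoly ⟨_, mem_R.2 ⟨v, rfl⟩⟩
    rw [LinearMap.aeval_self_charpoly] at h0
    simp only [map_zero, Matrix.toLin'_apply, LinearMap.zero_apply, map_mul, map_sub, map_pow, aeval_X, map_one,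
      ← Matrix.mulVec_mulVec, sub_one_mulVec]
    exact h0.symm
  have h1 : f.map ι ∣ z.charpoly * (X ^ 3 - 1) :=
    ((map_dvd_map' ι).2 hfp).trans (hp ▸ minpoly.dvd K M hq)
  have h2 : IsCoprime (f.map ι) (X ^ 3 - 1) := by
    have := (hf.coprime_iff_not_dvd.2 hf3).map (mapRingHom ι)
    simpa using this
  have h3 := natDegree_le_of_dvd (h2.dvd_of_dvd_mul_right h1) z.charpoly_monic.ne_zero
  rw [natDegree_map_eq_of_injective ι.injective, hf6, LinearMap.charpoly_natDegree] at h3
  have h4 := finrank_W_add_R (M ^ 3)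
  omega

end Cfsg.Agent.H23.D4Spec
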